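import Mathlib

/-!
# The canonical involution `b ↦ Tr(b) - b` of a free algebra of rank two
-/

set_option autoImplicit false

namespace Groth.Agent.Lib.Helper28.DblCov

open Module

section Ring

variable (A : Type*) {B : Type*} [CommRing A] [CommRing B] [Algebra A B]

/-- the conjugation map `b ↦ Tr(b) - b` -/
noncomputable def conj (b : B) : B := algebraMap A B (Algebra.trace A B b) - b

variable {A}

theorem matrix_adj (M : Matrix (Fin 2) (Fin 2) A) :
    Matrix.trace M • (1 : Matrix (Fin 2) (Fin 2) A) - M = M.adjugate := by
  ext i j
  fin_cases i <;> fin_cases j <;> simp [Matrix.adjugate_fin_two, Matrix.trace_fin_two]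

theorem leftMul_conj (bas : Basis (Fin 2) A B) (b : B) :
    Algebra.leftMulMatrix bas (conj A b) = (Algebra.leftMulMatrix bas b).adjugate := by
  rw [conj, map_sub, AlgHom.commutes, Algebra.algebraMap_eq_smul_one,
    Algebra.trace_eq_matrix_trace bas b, matrix_adj]

theorem conj_mul (bas : Basis (Fin 2) A B) (b c : B) :
    conj A (b * c) = conj A b * conj A c := by
  apply Algebra.leftMulMatrix_injective bas
  rw [map_mul, leftMul_conj, leftMul_conj, leftMul_conj, map_mul, Matrix.adjugate_mul_distrib,
    ← leftMul_conj, ← leftMul_conj, ← map_mul, ← map_mul, mul_comm]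

theorem trace_algebraMap_two (bas : Basis (Fin 2) A B) (a : A) :
    Algebra.trace A B (algebraMap A B a) = 2 * a := by
  rw [Algebra.trace_algebraMap_of_basis bas]
  simp [two_mul]

theorem conj_algebraMap (bas : Basis (Fin 2) A B) (a : A) :
    conj A (algebraMap A B a) = algebraMap A B a := by
  rw [conj, trace_algebraMap_two bas, map_mul, map_ofNat]
  ring

theorem conj_one (bas : Basis (Fin 2) A B) : conj A (1 : B) = 1 := by
  have := conj_algebraMap bas (1 : A)
  rwa [map_one] at this

theorem conj_add (b c : B) : conj A (b + c) = conj A b + conj A c := by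
  simp only [conj, map_add]
  ring

theorem conj_zero : conj A (0 : B) = 0 := by
  simp [conj]

theorem conj_conj (bas : Basis (Fin 2) A B) (b : B) : conj A (conj A b) = b := by
  rw [conj, conj, map_sub, trace_algebraMap_two bas, map_sub, map_mul, map_ofNat]
  ring

/-- An element fixed by the conjugation lies in the base ring, if `2` is invertible. -/
theorem mem_range_of_conj_eq (b : B) (h : conj A b = b) (u : A) (hu : u * 2 = 1) :
    b = algebraMap A B (u * Algebra.trace A B b) := by
  have h1 : algebraMap A B (Algebra.trace A B b) = 2 * b := by
    have : algebraMap A B (Algebra.trace A B b) - b = b := h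
    rw [two_mul]
    exact sub_eq_iff_eq_add.mp this
  rw [map_mul, h1, ← mul_assoc]
  have : algebraMap A B u * 2 = 1 := by
    have := congrArg (algebraMap A B) hu
    rwa [map_mul, map_ofNat, map_one] at this
  rw [this, one_mul]

theorem algebraMap_injective_of_basis (bas : Basis (Fin 2) A B) :
    Function.Injective (algebraMap A B) := by
  intro a a' h
  have h1 : Algebra.trace A B (algebraMap A B a) = Algebra.trace A B (algebraMap A B a') := by
    rw [h]
  rw [Algebra.trace_algebraMap_of_basis bas, Algebra.trace_algebraMap_of_basis bas] at h1
  -- trace only gives `2a = 2a'`; use the basis instead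
  have h2 : ∀ x : A, algebraMap A B x = 0 → x = 0 := by
    intro x hx
    have : x • bas 0 = 0 := by
      rw [Algebra.smul_def, hx, zero_mul]
    have h3 := congrArg (fun v => bas.repr v 0) this
    simpa using h3
  have := h2 (a - a') (by rw [map_sub, h, sub_self])
  exact sub_eq_zero.mp this

end Ring

end Groth.Agent.Lib.Helper28.DblCov
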