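import Mathlib
import Groth.Agent.Lib.Helper16.Norm.FreeNorm
import Groth.Agent.Lib.Helper28.DblCov.Ring

/-!
# The conjugation `Tr - id` on good opens and its compatibility with restriction
-/

set_option autoImplicit false
universe u
open CategoryTheory CategoryTheory.Limits AlgebraicGeometry TopologicalSpace Opposite

namespace Groth.Agent.Lib.Helper28.DblCov

open H16FNorm

section Alg

variable {R S Rm Sm : Type*} [CommRing R] [CommRing S] [CommRing Rm] [CommRing Sm]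
  [Algebra R S] [Algebra Rm Sm] [Algebra R Rm] [Algebra S Sm]

theorem alg_trace
    (hsq : (algebraMap Rm Sm).comp (algebraMap R Rm) = (algebraMap S Sm).comp (algebraMap R S))
    (r : R) [IsLocalization.Away r Rm] [IsLocalization.Away (algebraMap R S r) Sm]
    [Module.Free R S] [Module.Finite R S] (a : S) :
    Algebra.trace Rm Sm (algebraMap S Sm a) = algebraMap R Rm (Algebra.trace R S a) := by
  letI : Algebra R Sm := ((algebraMap S Sm).comp (algebraMap R S)).toAlgebra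
  haveI : IsScalarTower R S Sm := IsScalarTower.of_algebraMap_eq' rfl
  haveI : IsScalarTower R Rm Sm := IsScalarTower.of_algebraMap_eq' hsq.symm
  haveI : IsLocalization (Submonoid.powers r) Rm := ‹IsLocalization.Away r Rm›
  haveI : IsLocalization (Algebra.algebraMapSubmonoid S (Submonoid.powers r)) Sm := by
    rw [Algebra.algebraMapSubmonoid_powers]
    exact ‹IsLocalization.Away (algebraMap R S r) Sm›
  exact Algebra.trace_localization R (Submonoid.powers r) a

end Alg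

variable {X Y : Scheme.{u}} (π : X ⟶ Y)

/-- restriction of sections of `π_* O_X` -/
noncomputable abbrev rX {V W : Y.Opens} (j : W ⟶ V) : Γ(X, π ⁻¹ᵁ V) ⟶ Γ(X, π ⁻¹ᵁ W) :=
  X.presheaf.map ((Opens.map π.base).map j).op

/-- The conjugation over `V`. -/
noncomputable def cj (V : Y.Opens) : Γ(X, π ⁻¹ᵁ V) → Γ(X, π ⁻¹ᵁ V) :=
  letI := alg π V
  conj Γ(Y, V)

theorem cj_def (V : Y.Opens) (a : Γ(X, π ⁻¹ᵁ V)) :
    cj π V a = (π.app V).hom ((letI := alg π V; Algebra.trace Γ(Y, V) Γ(X, π ⁻¹ᵁ V)) a) - a := rfl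

theorem trace_res_basic [IsAffineHom π] {V W : Y.Opens} (hV : Good π V) (r : Γ(Y, V)) (j : W ⟶ V)
    (e : W = Y.basicOpen r) (a : Γ(X, π ⁻¹ᵁ V)) :
    (letI := alg π W; Algebra.trace Γ(Y, W) Γ(X, π ⁻¹ᵁ W)) (rX π j a) =
      Y.presheaf.map j.op ((letI := alg π V; Algebra.trace Γ(Y, V) Γ(X, π ⁻¹ᵁ V)) a) := by
  have hπV : IsAffineOpen (π ⁻¹ᵁ V) := hV.affine.preimage π
  letI : Algebra Γ(Y, V) Γ(X, π ⁻¹ᵁ V) := alg π V
  letI : Algebra Γ(Y, W) Γ(X, π ⁻¹ᵁ W) := alg π W
  letI : Algebra Γ(Y, V) Γ(Y, W) := (Y.presheaf.map j.op).hom.toAlgebra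
  letI : Algebra Γ(X, π ⁻¹ᵁ V) Γ(X, π ⁻¹ᵁ W) :=
    (X.presheaf.map ((Opens.map π.base).map j).op).hom.toAlgebra
  haveI : IsLocalization.Away r Γ(Y, W) := hV.affine.isLocalization_of_eq_basicOpen r j e
  haveI : IsLocalization.Away (algebraMap Γ(Y, V) Γ(X, π ⁻¹ᵁ V) r) Γ(X, π ⁻¹ᵁ W) :=
    hπV.isLocalization_of_eq_basicOpen (π.app V r) ((Opens.map π.base).map j)
      (by rw [e, Scheme.preimage_basicOpen])
  have hsq : (algebraMap Γ(Y, W) Γ(X, π ⁻¹ᵁ W)).comp (algebraMap Γ(Y, V) Γ(Y, W)) =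
      (algebraMap Γ(X, π ⁻¹ᵁ V) Γ(X, π ⁻¹ᵁ W)).comp (algebraMap Γ(Y, V) Γ(X, π ⁻¹ᵁ V)) := by
    have := π.naturality j.op
    exact congrArg CommRingCat.Hom.hom this
  haveI := hV.free
  haveI := hV.finite
  exact alg_trace hsq r a

theorem app_res {V W : Y.Opens} (j : W ⟶ V) (t : Γ(Y, V)) :
    (π.app W).hom (Y.presheaf.map j.op t) = rX π j ((π.app V).hom t) := by
  have := π.naturality j.op
  exact congrArg (fun φ => φ.hom t) this

theorem cj_res_basic [IsAffineHom π] {V W : Y.Opens} (hV : Good π V) (r : Γ(Y, V)) (j : W ⟶ V)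
    (e : W = Y.basicOpen r) (a : Γ(X, π ⁻¹ᵁ V)) :
    cj π W (rX π j a) = rX π j (cj π V a) := by
  rw [cj_def, cj_def, trace_res_basic π hV r j e a, app_res, map_sub]

theorem rX_comp {V W U : Y.Opens} (j : W ⟶ V) (k : U ⟶ W) (a : Γ(X, π ⁻¹ᵁ V)) :
    rX π k (rX π j a) = rX π (k ≫ j) a := by
  rw [← CommRingCat.comp_apply, ← Functor.map_comp]
  rfl

section

variable [IsFinite π] [Flat π] [LocallyOfFinitePresentation π]

theorem cj_res {V V' : Y.Opens} (hV : Good π V) (hV' : Good π V') (j : V' ⟶ V)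
    (a : Γ(X, π ⁻¹ᵁ V)) : cj π V' (rX π j a) = rX π j (cj π V a) := by
  apply TopCat.Presheaf.section_ext X.sheaf
  intro x hx
  have hy' : π x ∈ V' := hx
  have hy : π x ∈ V := j.le hy'
  obtain ⟨f', g, e, hyf⟩ := exists_basicOpen_le_affine_inter hV'.affine hV.affine (π x) ⟨hy', hy⟩
  let j₁ : Y.basicOpen f' ⟶ V' := homOfLE (Y.basicOpen_le f')
  let j₂ : Y.basicOpen f' ⟶ V := homOfLE (e ▸ Y.basicOpen_le g)
  have hxW : x ∈ π ⁻¹ᵁ Y.basicOpen f' := hyf
  have e1 := cj_res_basic π hV' f' j₁ rfl (rX π j a)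
  have e2 := cj_res_basic π hV g j₂ e a
  have e3 : rX π j₁ (rX π j a) = rX π j₂ a := rX_comp π j j₁ a
  have e4 : rX π j₁ (rX π j (cj π V a)) = rX π j₂ (cj π V a) := rX_comp π j j₁ (cj π V a)
  rw [e3] at e1
  have e5 : rX π j₁ (cj π V' (rX π j a)) = rX π j₁ (rX π j (cj π V a)) := by
    rw [← e1, e2, e4]
  have g1 := TopCat.Presheaf.germ_res_apply X.presheaf ((Opens.map π.base).map j₁) x hxW
    (cj π V' (rX π j a))
  have g2 := TopCat.Presheaf.germ_res_apply X.presheaf ((Opens.map π.base).map j₁) x hxW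
    (rX π j (cj π V a))
  have e6 := congrArg (X.presheaf.germ (π ⁻¹ᵁ Y.basicOpen f') x hxW) e5
  exact g1.symm.trans (e6.trans g2)

theorem exists_basis (hd : ∀ y, π.finrank y = 2) {V : Y.Opens} (hV : Good π V)
    [Nontrivial Γ(Y, V)] :
    letI := alg π V
    Nonempty (Module.Basis (Fin 2) Γ(Y, V) Γ(X, π ⁻¹ᵁ V)) := by
  letI := alg π V
  haveI := hV.free
  haveI := hV.finite
  exact ⟨Module.finBasisOfFinrankEq Γ(Y, V) Γ(X, π ⁻¹ᵁ V) (finrank_eq π hd hV)⟩

theorem subsingleton_of_subsingleton (V : Y.Opens) [Subsingleton Γ(Y, V)] :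
    Subsingleton Γ(X, π ⁻¹ᵁ V) := by
  have h : (1 : Γ(X, π ⁻¹ᵁ V)) = 0 := by
    rw [← map_one (π.app V).hom, Subsingleton.elim (1 : Γ(Y, V)) 0, map_zero]
  exact subsingleton_of_zero_eq_one h.symm

theorem cj_mul (hd : ∀ y, π.finrank y = 2) {V : Y.Opens} (hV : Good π V)
    (a b : Γ(X, π ⁻¹ᵁ V)) : cj π V (a * b) = cj π V a * cj π V b := by
  rcases subsingleton_or_nontrivial Γ(Y, V) with h | h
  · haveI := subsingleton_of_subsingleton π V
    exact Subsingleton.elim _ _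
  · letI := alg π V
    obtain ⟨bas⟩ := exists_basis π hd hV
    exact conj_mul bas a b

theorem cj_one (hd : ∀ y, π.finrank y = 2) {V : Y.Opens} (hV : Good π V) :
    cj π V 1 = 1 := by
  rcases subsingleton_or_nontrivial Γ(Y, V) with h | h
  · haveI := subsingleton_of_subsingleton π V
    exact Subsingleton.elim _ _
  · letI := alg π V
    obtain ⟨bas⟩ := exists_basis π hd hV
    exact conj_one bas

theorem cj_cj (hd : ∀ y, π.finrank y = 2) {V : Y.Opens} (hV : Good π V)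
    (a : Γ(X, π ⁻¹ᵁ V)) : cj π V (cj π V a) = a := by
  rcases subsingleton_or_nontrivial Γ(Y, V) with h | h
  · haveI := subsingleton_of_subsingleton π V
    exact Subsingleton.elim _ _
  · letI := alg π V
    obtain ⟨bas⟩ := exists_basis π hd hV
    exact conj_conj bas a

theorem cj_app (hd : ∀ y, π.finrank y = 2) {V : Y.Opens} (hV : Good π V)
    (t : Γ(Y, V)) : cj π V ((π.app V).hom t) = (π.app V).hom t := by
  rcases subsingleton_or_nontrivial Γ(Y, V) with h | h
  · haveI := subsingleton_of_subsingleton π V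
    exact Subsingleton.elim _ _
  · letI := alg π V
    obtain ⟨bas⟩ := exists_basis π hd hV
    exact conj_algebraMap bas t

theorem app_injective (hd : ∀ y, π.finrank y = 2) {V : Y.Opens} (hV : Good π V) :
    Function.Injective (π.app V).hom := by
  rcases subsingleton_or_nontrivial Γ(Y, V) with h | h
  · intro a b _
    exact Subsingleton.elim _ _
  · letI := alg π V
    obtain ⟨bas⟩ := exists_basis π hd hV
    exact algebraMap_injective_of_basis bas

theorem cj_add (V : Y.Opens) (a b : Γ(X, π ⁻¹ᵁ V)) : cj π V (a + b) = cj π V a + cj π V b := by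
  letI := alg π V
  exact conj_add a b

theorem cj_zero (V : Y.Opens) : cj π V 0 = 0 := by
  letI := alg π V
  exact conj_zero

/-- The conjugation as a ring endomorphism. -/
noncomputable def cjHom (hd : ∀ y, π.finrank y = 2) {V : Y.Opens} (hV : Good π V) :
    Γ(X, π ⁻¹ᵁ V) ⟶ Γ(X, π ⁻¹ᵁ V) :=
  CommRingCat.ofHom
    { toFun := cj π V
      map_one' := cj_one π hd hV
      map_mul' := cj_mul π hd hV
      map_zero' := cj_zero π V
      map_add' := cj_add π V }

theorem cjHom_apply (hd : ∀ y, π.finrank y = 2) {V : Y.Opens} (hV : Good π V)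
    (a : Γ(X, π ⁻¹ᵁ V)) : (cjHom π hd hV).hom a = cj π V a := rfl

theorem cjHom_comp_self (hd : ∀ y, π.finrank y = 2) {V : Y.Opens} (hV : Good π V) :
    cjHom π hd hV ≫ cjHom π hd hV = 𝟙 _ := by
  ext a
  exact cj_cj π hd hV a

theorem app_comp_cjHom (hd : ∀ y, π.finrank y = 2) {V : Y.Opens} (hV : Good π V) :
    π.app V ≫ cjHom π hd hV = π.app V := by
  ext t
  exact cj_app π hd hV t

theorem cjHom_res (hd : ∀ y, π.finrank y = 2) {V V' : Y.Opens} (hV : Good π V)
    (hV' : Good π V') (j : V' ⟶ V) :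
    rX π j ≫ cjHom π hd hV' = cjHom π hd hV ≫ rX π j := by
  ext a
  exact cj_res π hV hV' j a

end

end Groth.Agent.Lib.Helper28.DblCov
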