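import Mathlib
import Groth.Agent.Lib.Helper28.DblCov.Trace
import Groth.Agent.Lib.Helper28.ZR.Main

/-!
# Gluing the conjugations into an involution of a double cover
-/

set_option autoImplicit false
universe u
open CategoryTheory CategoryTheory.Limits AlgebraicGeometry TopologicalSpace Opposite

namespace Groth.Agent.Lib.Helper28.DblCov

open H16FNorm

variable {X Y : Scheme.{u}} (π : X ⟶ Y) [IsFinite π] [Flat π] [LocallyOfFinitePresentation π]

/-- good opens of `Y` -/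
abbrev GoodOpen := {V : Y.Opens // Good π V}

/-- The cover of `X` by the preimages of the good opens of `Y`. -/
noncomputable abbrev goodCover : X.OpenCover where
  I₀ := GoodOpen π
  X V := (π ⁻¹ᵁ V.1)
  f V := (π ⁻¹ᵁ V.1).ι
  mem₀ := by
    rw [Scheme.presieve₀_mem_precoverage_iff]
    refine ⟨fun x => ?_, inferInstance⟩
    obtain ⟨V, hV, hxV, -⟩ := exists_good π (U := ⊤) (y := π x) trivial
    exact ⟨⟨V, hV⟩, ⟨x, hxV⟩, rfl⟩

set_option backward.isDefEq.respectTransparency false in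
noncomputable instance : (goodCover π).LocallyDirected where
  trans {i j} hij := X.homOfLE (π.preimage_mono (leOfHom hij))
  directed {U V} x := by
    let a := (pullback.fst _ _ ≫ (π ⁻¹ᵁ U.1).ι) x
    have haU : a ∈ π ⁻¹ᵁ U.1 := (pullback.fst (π ⁻¹ᵁ U.1).ι (π ⁻¹ᵁ V.1).ι x).2
    have haV : a ∈ π ⁻¹ᵁ V.1 := by
      unfold a; rw [pullback.condition]; exact (pullback.snd (π ⁻¹ᵁ U.1).ι (π ⁻¹ᵁ V.1).ι x).2
    obtain ⟨W, hW, haW, hWUV⟩ := exists_good π (U := U.1 ⊓ V.1) (y := π a) ⟨haU, haV⟩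
    refine ⟨⟨W, hW⟩, homOfLE (hWUV.trans inf_le_left), homOfLE (hWUV.trans inf_le_right),
      ⟨a, haW⟩, ?_⟩
    apply (pullback.fst _ _ ≫ (π ⁻¹ᵁ U.1).ι).isOpenEmbedding.injective
    dsimp
    change (pullback.lift _ _ _ ≫ pullback.fst _ _ ≫ (π ⁻¹ᵁ U.1).ι) _ = _
    simp only [pullback.lift_fst_assoc, Scheme.homOfLE_ι, Scheme.Opens.ι_apply]
    rfl

variable (hd : ∀ y, π.finrank y = 2)

/-- the local involution over a good open -/
noncomputable def sigmaLoc (V : GoodOpen π) : (π ⁻¹ᵁ V.1 : X.Opens).toScheme ⟶ X :=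
  (π ⁻¹ᵁ V.1).toSpecΓ ≫ Spec.map (cjHom π hd V.2) ≫ (V.2.affine.preimage π).fromSpec

theorem sigmaLoc_trans {i j : GoodOpen π} (hij : i ⟶ j) :
    X.homOfLE (π.preimage_mono (leOfHom hij)) ≫ sigmaLoc π hd j = sigmaLoc π hd i := by
  unfold sigmaLoc
  have h1 := Scheme.Opens.toSpecΓ_SpecMap_presheaf_map (π ⁻¹ᵁ i.1) (π ⁻¹ᵁ j.1)
    (π.preimage_mono (leOfHom hij))
  have h2 : X.presheaf.map (homOfLE (π.preimage_mono (leOfHom hij))).op =
      rX π (homOfLE (leOfHom hij)) := rfl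
  rw [← reassoc_of% h1, h2, ← Spec.map_comp_assoc, ← cjHom_res π hd j.2 i.2, Spec.map_comp_assoc]
  congr 2
  exact IsAffineOpen.map_fromSpec (j.2.affine.preimage π) (i.2.affine.preimage π)
    (homOfLE (π.preimage_mono (leOfHom hij))).op

/-- The involution of a double cover. -/
noncomputable def sigma : X ⟶ X :=
  (goodCover π).glueMorphismsOfLocallyDirected (sigmaLoc π hd)
    (fun {_ _} hij => sigmaLoc_trans π hd hij)

theorem ι_sigma (V : GoodOpen π) : (π ⁻¹ᵁ V.1).ι ≫ sigma π hd = sigmaLoc π hd V :=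
  (goodCover π).map_glueMorphismsOfLocallyDirected (sigmaLoc π hd)
    (fun {_ _} hij => sigmaLoc_trans π hd hij) V

theorem fromSpec_sigma (V : GoodOpen π) :
    (V.2.affine.preimage π).fromSpec ≫ sigma π hd =
      Spec.map (cjHom π hd V.2) ≫ (V.2.affine.preimage π).fromSpec := by
  have h := ι_sigma π hd V
  have h1 : (V.2.affine.preimage π).fromSpec =
      (V.2.affine.preimage π).isoSpec.inv ≫ (π ⁻¹ᵁ V.1).ι := rfl
  rw [h1, Category.assoc, h, sigmaLoc, IsAffineOpen.isoSpec_inv_toSpecΓ_assoc, ← h1]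

theorem sigma_comp (hd : ∀ y, π.finrank y = 2) : sigma π hd ≫ π = π := by
  apply (goodCover π).hom_ext
  intro V
  show (π ⁻¹ᵁ V.1).ι ≫ sigma π hd ≫ π = (π ⁻¹ᵁ V.1).ι ≫ π
  rw [reassoc_of% ι_sigma π hd V, sigmaLoc, Category.assoc, Category.assoc]
  have h1 := IsAffineOpen.SpecMap_appLE_fromSpec π V.2.affine (V.2.affine.preimage π) le_rfl
  rw [← Scheme.Hom.app_eq_appLE] at h1
  rw [← h1, ← Spec.map_comp_assoc, app_comp_cjHom, h1, IsAffineOpen.toSpecΓ_fromSpec_assoc]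

theorem sigma_sigma (hd : ∀ y, π.finrank y = 2) : sigma π hd ≫ sigma π hd = 𝟙 X := by
  apply (goodCover π).hom_ext
  intro V
  show (π ⁻¹ᵁ V.1).ι ≫ sigma π hd ≫ sigma π hd = (π ⁻¹ᵁ V.1).ι ≫ 𝟙 X
  rw [reassoc_of% ι_sigma π hd V, sigmaLoc, Category.assoc, Category.assoc, fromSpec_sigma,
    ← Spec.map_comp_assoc, cjHom_comp_self, Spec.map_id, Category.id_comp, Category.comp_id,
    IsAffineOpen.toSpecΓ_fromSpec]

/-- `σ^#` over a good open is the conjugation -/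
theorem sigma_appLE (V : GoodOpen π) (e : π ⁻¹ᵁ V.1 ≤ (sigma π hd) ⁻¹ᵁ (π ⁻¹ᵁ V.1)) :
    (sigma π hd).appLE (π ⁻¹ᵁ V.1) (π ⁻¹ᵁ V.1) e = cjHom π hd V.2 := by
  apply ZR.SpecMap_fromSpec_injective (V.2.affine.preimage π)
  rw [IsAffineOpen.SpecMap_appLE_fromSpec (sigma π hd) (V.2.affine.preimage π)
    (V.2.affine.preimage π) e, fromSpec_sigma]

end Groth.Agent.Lib.Helper28.DblCov
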