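import Mathlib
import Groth.Prelude.Def_SGA1
import Groth.Agent.Lib.Helper11.IQ2
import Groth.Agent.Lib.Helper28.DblCov.Glue

/-!
# A double cover is the quotient by its canonical involution (when `2` is invertible)
-/

set_option autoImplicit false
universe u
open CategoryTheory CategoryTheory.Limits AlgebraicGeometry TopologicalSpace Opposite

namespace Groth.Agent.Lib.Helper28.DblCov

open H16FNorm

variable {X Y : Scheme.{u}}

theorem exists_involution (f : X ⟶ Y) [IsFinite f] [Flat f] [LocallyOfFinitePresentation f]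
    (hrk : ∀ y : Y, f.finrank y = 2) (h2 : IsUnit (2 : Γ(Y, ⊤))) :
    ∃ σ : Aut X, σ.hom ≫ f = f ∧ σ * σ = 1 ∧ SGA1.IsQuot (Subgroup.zpowers σ).subtype f := by
  let σ : Aut X := ⟨sigma f hrk, sigma f hrk, sigma_sigma f hrk, sigma_sigma f hrk⟩
  have hσf : σ.hom ≫ f = f := sigma_comp f hrk
  have hσσ : σ * σ = 1 := by
    apply Iso.ext
    exact sigma_sigma f hrk
  refine ⟨σ, hσf, hσσ, ?_⟩
  haveI : Finite (Subgroup.zpowers σ) := by
    have h : IsOfFinOrder σ :=
      isOfFinOrder_iff_pow_eq_one.mpr ⟨2, by norm_num, by rw [pow_two]; exact hσσ⟩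
    exact h.finite_zpowers
  have hinv : ∀ g : Subgroup.zpowers σ, ((Subgroup.zpowers σ).subtype g).hom ≫ f = f := by
    let H : Subgroup (Aut X) :=
      { carrier := {τ | τ.hom ≫ f = f}
        mul_mem' := fun {a b} ha hb => by
          show (a * b).hom ≫ f = f
          have : (a * b).hom = b.hom ≫ a.hom := rfl
          rw [this, Category.assoc, ha, hb]
        one_mem' := by
          show (1 : Aut X).hom ≫ f = f
          exact Category.id_comp f
        inv_mem' := fun {a} ha => by
          show (a⁻¹).hom ≫ f = f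
          have h1 : (a⁻¹).hom = a.inv := rfl
          have ha' : a.hom ≫ f = f := ha
          rw [h1, Iso.inv_comp_eq, ha'] }
    have hle : Subgroup.zpowers σ ≤ H := (Subgroup.zpowers_le).mpr hσf
    intro g
    exact hle g.2
  haveI : IsAffineHom f := inferInstance
  apply Groth.Agent.Lib.Helper11.IQ2.isQuot_of_affine_cover _ f hinv {V | Good f V}
    (fun V hV => hV.affine)
    (fun y => by
      obtain ⟨V, hV, hy, -⟩ := exists_good f (U := ⊤) (y := y) trivial
      exact ⟨V, hV, hy⟩)
  intro V hV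
  refine ⟨app_injective f hrk hV, fun s hs => ?_⟩
  have h1 := hs ⟨σ, Subgroup.mem_zpowers σ⟩
  have h3 : cj f V s = s := by
    have h4 := sigma_appLE f hrk ⟨V, hV⟩
      (SGA1.preimage_le_of_inv (Subgroup.zpowers σ).subtype f hinv ⟨σ, Subgroup.mem_zpowers σ⟩ V)
    have h5 := congrArg (fun φ => φ.hom s) h4
    exact h5.symm.trans h1
  obtain ⟨u, hu⟩ := h2.exists_left_inv
  let uV : Γ(Y, V) := (Y.presheaf.map (homOfLE (le_top : V ≤ ⊤)).op).hom u
  have huV : uV * 2 = 1 := by
    have := congrArg (Y.presheaf.map (homOfLE (le_top : V ≤ ⊤)).op).hom hu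
    rwa [map_mul, map_ofNat, map_one] at this
  letI := alg f V
  exact ⟨uV * Algebra.trace Γ(Y, V) Γ(X, f ⁻¹ᵁ V) s, (mem_range_of_conj_eq s h3 uV huV).symm⟩

end Groth.Agent.Lib.Helper28.DblCov
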